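import Cfsg.Agent.Lib.Sporadic.FiTransfer23.Involution.StabChecks
import Cfsg.Agent.Lib.Sporadic.FiTransfer23.Width

/-!
# Transitivity on pairs and triples of commuting transpositions of Fi23

Two commuting transpositions can be moved to two fixed ones, and the stabiliser of these two is
transitive on the transpositions commuting with both.
-/

set_option autoImplicit false
set_option maxRecDepth 100000

open Cfsg.Spor

namespace CfsgLib.Sporadic.FiTransfer23.Involution

open CosetCert CosetCert.Fi23P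
open Fi23Data (table forestH)
open Two (dp dp_eq conj_dp comm_of_fix el el_img)
open OutFi (dp_injective dp_ne_one)
open ThreeTransp.TypeTwentyFour.Model (class_eq tr_eq_dp commute_tr_iff)

attribute [local irreducible] PTab.img Forest.cls

/-- The second point. -/
noncomputable def qpt : Fin table.N := Two.fpt 5

theorem qpt_val : (qpt : ℕ) = ptSnd := by
  rw [qpt, Two.fpt_val (by norm_num)]
  rfl

theorem qpt_cls : forestH.cls qpt = 1 := by
  rw [qpt_val]
  decide +kernel

theorem qpt_ne : qpt ≠ pt := fun e => by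
  have h := congrArg Fin.val e
  rw [qpt_val] at h
  exact absurd h (show ¬ ptSnd = 0 from by decide)

/-- The second transposition is the first generator. -/
theorem gen_zero_eq : coding.gen 0 = dp qpt := by
  rw [Two.gen_eq_dp 0 (by norm_num)]
  congr 1

theorem img_zero (u : Fin table.N) : ((hom (dp qpt) u : Fin table.N) : ℕ) = table.img 0 u := by
  rw [← gen_zero_eq, hom_acts.img_eq 0 (by decide +kernel) u]

theorem fix_of_commute {g : Fi23} {u : Fin table.N} (h : Commute g (dp u)) : hom g u = u :=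
  dp_injective (by rw [← conj_dp, h.eq, mul_inv_cancel_right])

theorem conj_of_hom {g : Fi23} {u v : Fin table.N} (h : hom g u = v) : g * dp u * g⁻¹ = dp v := by
  rw [conj_dp, h]

/-- A common neighbour of the two. -/
def IsNb (u : Fin table.N) : Prop :=
  forestH.cls u = 1 ∧ u ≠ qpt ∧ table.img 0 u = u

theorem isNb_iff {u : Fin table.N} :
    IsNb u ↔ u ≠ pt ∧ u ≠ qpt ∧ Commute tr (dp u) ∧ Commute (dp qpt) (dp u) := by
  constructor
  · rintro ⟨h1, h2, h3⟩
    refine ⟨fun e => ?_, h2, (commute_tr_iff u).2 (Or.inr h1),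
      comm_of_fix (Fin.ext ((img_zero u).trans h3))⟩
    rw [e] at h1
    exact absurd h1 (by decide +kernel)
  · rintro ⟨h1, h2, h3, h4⟩
    refine ⟨((commute_tr_iff u).1 h3).resolve_left h1, h2, ?_⟩
    rw [← img_zero u, fix_of_commute h4]

theorem gens_fix {w : List ℕ} (hw : w ∈ stabGens) :
    (∀ x ∈ w, x < 10) ∧ hom (el w) pt = pt ∧ hom (el w) qpt = qpt := by
  have h := List.all_eq_true.1 gens_ok w hw
  simp only [Bool.and_eq_true, List.all_eq_true, Nat.blt_eq] at h
  obtain ⟨⟨hl, h1⟩, h2⟩ := h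
  refine ⟨hl, Fin.ext ?_, Fin.ext ?_⟩
  · rw [el_img hl]
    exact Nat.eq_of_beq_eq_true h1
  · rw [el_img hl, qpt_val]
    exact Nat.eq_of_beq_eq_true h2

theorem base_lt : stabBase < table.N := by decide +kernel

/-- The first common neighbour. -/
noncomputable def bpt : Fin table.N := ⟨stabBase, base_lt⟩

theorem bpt_nb : IsNb bpt := by
  refine ⟨?_, fun e => ?_, ?_⟩
  · show forestH.cls stabBase = 1
    decide +kernel
  · have h := congrArg Fin.val e
    rw [qpt_val] at h
    exact absurd h (show ¬ stabBase = ptSnd from by decide)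
  · show table.img 0 stabBase = stabBase
    decide +kernel

/-- Moved from the first common neighbour by an element fixing both points. -/
def Reach (n : ℕ) : Prop :=
  ∃ k : Fi23, hom k pt = pt ∧ hom k qpt = qpt ∧ ((hom k bpt : Fin table.N) : ℕ) = n

theorem tree_reach : ∀ (L : List (ℕ × ℕ × ℕ)) (seen : List ℕ), treeK L seen = true →
    (∀ n ∈ seen, Reach n) → ∀ n ∈ L.map (fun e => e.1), Reach n := by
  intro L
  induction L with
  | nil => intro _ _ _ n hn; simp at hn
  | cons e L ih =>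
    obtain ⟨c, p, g⟩ := e
    intro seen h hseen n hn
    simp only [treeK, Bool.and_eq_true, List.contains_eq_mem, decide_eq_true_eq, Nat.blt_eq] at h
    obtain ⟨⟨⟨hp, hg⟩, himg⟩, hrest⟩ := h
    obtain ⟨k, hk1, hk2, hk3⟩ := hseen p hp
    obtain ⟨hl, hg1, hg2⟩ := gens_fix (w := stabGens.getD g [])
      (by rw [List.getD_eq_getElem _ _ hg]; exact List.getElem_mem hg)
    have hc : Reach c := ⟨el (stabGens.getD g []) * k,
      by rw [map_mul, Equiv.Perm.mul_apply, hk1, hg1],
      by rw [map_mul, Equiv.Perm.mul_apply, hk2, hg2],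
      by rw [map_mul, Equiv.Perm.mul_apply, el_img hl, hk3]; exact Nat.eq_of_beq_eq_true himg⟩
    have hall := ih (c :: seen) hrest fun m hm => by
      rcases List.mem_cons.1 hm with rfl | hm
      exacts [hc, hseen m hm]
    simp only [List.map_cons, List.mem_cons] at hn
    rcases hn with rfl | hn
    exacts [hc, hall n hn]

theorem exists_to_nb {u : Fin table.N} (hu : IsNb u) :
    ∃ k : Fi23, hom k pt = pt ∧ hom k qpt = qpt ∧ hom k bpt = u := by
  obtain ⟨h1, h2, h3⟩ := hu
  have key : ∀ {s n : ℕ}, coverK s n = true → s ≤ u.1 → u.1 < s + n → (u : ℕ) ∈ treePts := by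
    intro s n hK ha hb
    have h := List.all_eq_true.1 hK (u.1 - s) (List.mem_range.2 (by omega))
    rw [show s + (u.1 - s) = u.1 by omega, Nat.beq_eq.mpr h1, Nat.beq_eq.mpr h3,
      Bool.eq_false_iff.mpr (fun e : Nat.beq u.1 ptSnd = true =>
        h2 (Fin.ext ((Nat.eq_of_beq_eq_true e).trans qpt_val.symm)))] at h
    simpa using h
  have hN : table.N = 31671 := rfl
  have hu' := u.2
  have hm : (u : ℕ) ∈ treePts := by
    rcases lt_or_ge u.1 8000 with ha | ha
    · exact key cover0 (Nat.zero_le _) (by omega)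
    rcases lt_or_ge u.1 16000 with hb | hb
    · exact key cover1 ha (by omega)
    rcases lt_or_ge u.1 24000 with hc | hc
    · exact key cover2 hb (by omega)
    exact key cover3 hc (by omega)
  have hbase : ∀ n ∈ [stabBase], Reach n := fun n hn => by
    rw [List.mem_singleton] at hn
    subst hn
    exact ⟨1, by simp, by simp, by simp [bpt]⟩
  obtain ⟨k, hk1, hk2, hk3⟩ : Reach (u : ℕ) := by
    rcases List.mem_cons.1 hm with e | e
    · exact hbase _ (List.mem_singleton.2 e)
    · exact tree_reach stabTree [stabBase] tree_ok hbase _ e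
  exact ⟨k, hk1, hk2, Fin.ext hk3⟩

/-- Two commuting transpositions can be moved to the two fixed ones. -/
theorem pair_std {a b : Fi23} (ha : a ∈ classTr) (hb : b ∈ classTr) (hne : a ≠ b) (hab : Commute a b) :
    ∃ g : Fi23, g * a * g⁻¹ = tr ∧ g * b * g⁻¹ = dp qpt := by
  rw [class_eq] at ha hb
  obtain ⟨u, rfl⟩ := ha
  obtain ⟨v, rfl⟩ := hb
  obtain ⟨x, hx⟩ := transitive u
  have h0 : hom x⁻¹ u = pt := by rw [← hx, map_inv]; simp
  have hv : forestH.cls (hom x⁻¹ v : Fin table.N) = 1 := by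
    refine ((commute_tr_iff _).1 ?_).resolve_left fun e => hne ?_
    · rw [tr_eq_dp, ← h0, ← conj_dp, ← conj_dp]
      exact (Commute.conj_iff _).2 hab
    · rw [show u = v from (hom x⁻¹).injective (h0.trans e.symm)]
  obtain ⟨k, hk, hkv⟩ := exists_sub_of_class (u := qpt) (v := hom x⁻¹ v) (qpt_cls.trans hv.symm)
  refine ⟨k * x⁻¹, ?_, ?_⟩
  · rw [tr_eq_dp]
    exact conj_of_hom (by rw [map_mul, Equiv.Perm.mul_apply, h0, hom_fix k hk])
  · exact conj_of_hom (by rw [map_mul, Equiv.Perm.mul_apply, hkv])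

/-- Three commuting transpositions can be moved to three fixed ones. -/
theorem triple_std {a b c : Fi23} (ha : a ∈ classTr) (hb : b ∈ classTr) (hc : c ∈ classTr)
    (hab : a ≠ b) (hac : a ≠ c) (hbc : b ≠ c) (cab : Commute a b) (cac : Commute a c)
    (cbc : Commute b c) :
    ∃ g : Fi23, g * a * g⁻¹ = tr ∧ g * b * g⁻¹ = dp qpt ∧ g * c * g⁻¹ = dp bpt := by
  obtain ⟨g, ga, gb⟩ := pair_std ha hb hab cab
  rw [class_eq] at hc
  obtain ⟨w, rfl⟩ := hc
  have hgw : g * dp w * g⁻¹ = dp (hom g w) := conj_dp g w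
  have hinj : ∀ {y z : Fi23}, g * y * g⁻¹ = g * z * g⁻¹ → y = z :=
    fun h => mul_left_cancel (mul_right_cancel h)
  have hnb : IsNb (hom g w) := isNb_iff.2 ⟨fun e => hac (hinj (by rw [ga, hgw, e, tr_eq_dp])),
    fun e => hbc (hinj (by rw [gb, hgw, e])),
    by rw [← ga, ← hgw]; exact (Commute.conj_iff g).2 cac,
    by rw [← gb, ← hgw]; exact (Commute.conj_iff g).2 cbc⟩
  obtain ⟨k, hk1, hk2, hk3⟩ := exists_to_nb hnb
  have i1 : hom k⁻¹ pt = pt := by rw [map_inv, Equiv.Perm.inv_def, Equiv.symm_apply_eq, hk1]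
  have i2 : hom k⁻¹ qpt = qpt := by rw [map_inv, Equiv.Perm.inv_def, Equiv.symm_apply_eq, hk2]
  have i3 : hom k⁻¹ (hom g w) = bpt := by rw [map_inv, Equiv.Perm.inv_def, Equiv.symm_apply_eq, hk3]
  have e : ∀ y : Fi23, k⁻¹ * g * y * (k⁻¹ * g)⁻¹ = k⁻¹ * (g * y * g⁻¹) * k⁻¹⁻¹ := fun y => by group
  refine ⟨k⁻¹ * g, ?_, ?_, ?_⟩
  · rw [e, ga, tr_eq_dp]; exact conj_of_hom i1
  · rw [e, gb]; exact conj_of_hom i2
  · rw [e, hgw]; exact conj_of_hom i3

end CfsgLib.Sporadic.FiTransfer23.Involution
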