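import Cfsg.Agent.Lib.Sporadic.FiTransfer23.Involution.StabData
import Cfsg.Agent.Lib.Sporadic.Fi23SylowTwo.Defs
import Cfsg.Agent.Lib.Sporadic.Fi23Data.Fi23Table
import Cfsg.Agent.Lib.Sporadic.Fi23Presented

/-!
The checks on the spanning tree of the transpositions commuting with two commuting ones.
-/

set_option autoImplicit false
set_option maxRecDepth 100000
set_option maxHeartbeats 0

namespace CfsgLib.Sporadic.FiTransfer23.Involution

open CosetCert
open Fi23Data (table forestH)

/-- The point of the second transposition. -/
def ptSnd : ℕ := 11589

/-- The generators fix both points. -/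
noncomputable def gensK : Bool :=
  stabGens.all fun w => (w.all fun x => Nat.blt x 10) && Nat.beq (table.imgW w 0) 0 &&
    Nat.beq (table.imgW w ptSnd) ptSnd

/-- A tree of images. -/
noncomputable def treeK : List (ℕ × ℕ × ℕ) → List ℕ → Bool
  | [], _ => true
  | (c, p, g) :: L, seen => seen.contains p && Nat.blt g stabGens.length &&
      Nat.beq (table.imgW (stabGens.getD g []) p) c && treeK L (c :: seen)

/-- The points in the tree. -/
def treePts : List ℕ := stabBase :: stabTree.map fun e => e.1

/-- The common neighbours in an interval are in the tree. -/
noncomputable def coverK (s n : ℕ) : Bool :=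
  (List.range n).all fun i =>
    !(Nat.beq (forestH.cls (s + i)) 1) || Nat.beq (s + i) ptSnd ||
      !(Nat.beq (table.img 0 (s + i)) (s + i)) || treePts.contains (s + i)

theorem gens_ok : gensK = true := by decide +kernel
theorem tree_ok : treeK stabTree [stabBase] = true := by decide +kernel
theorem cover0 : coverK 0 8000 = true := by decide +kernel
theorem cover1 : coverK 8000 8000 = true := by decide +kernel
theorem cover2 : coverK 16000 8000 = true := by decide +kernel
theorem cover3 : coverK 24000 7671 = true := by decide +kernel

end CfsgLib.Sporadic.FiTransfer23.Involution
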